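import Mathlib

/-!
# Symmetric functions on a triple tensor product restricted to diagonals
-/

open TensorProduct

namespace Groth.Agent.DiagIdealLib

universe u v
variable (k : Type u) [CommRing k] (A : Type v) [CommRing A] [Algebra k A]

local notation "T" => A ⊗[k] (A ⊗[k] A)
local notation "dd" => KaehlerDifferential.D k A

noncomputable def e₁ : A →ₐ[k] T := Algebra.TensorProduct.includeLeft
noncomputable def e₂ : A →ₐ[k] T :=
  (Algebra.TensorProduct.includeRight : A ⊗[k] A →ₐ[k] T).comp Algebra.TensorProduct.includeLeft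
noncomputable def e₃ : A →ₐ[k] T :=
  (Algebra.TensorProduct.includeRight : A ⊗[k] A →ₐ[k] T).comp Algebra.TensorProduct.includeRight

theorem tmul_eq (a b c : A) : a ⊗ₜ[k] (b ⊗ₜ[k] c) = e₁ k A a * e₂ k A b * e₃ k A c := by
  simp [e₁, e₂, e₃]

/-- The function `t(x_i, x_j)`. -/
noncomputable def pair (f g : A →ₐ[k] T) : A ⊗[k] A →ₐ[k] T := Algebra.TensorProduct.productMap f g

theorem pair_tmul (f g : A →ₐ[k] T) (a b : A) : pair k A f g (a ⊗ₜ[k] b) = f a * g b :=
  Algebra.TensorProduct.productMap_apply_tmul _ _ _ _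

noncomputable def swap₁₂ : T →ₐ[k] T :=
  Algebra.TensorProduct.lift (e₂ k A) (pair k A (e₁ k A) (e₃ k A)) fun _ _ => Commute.all _ _
noncomputable def swap₂₃ : T →ₐ[k] T :=
  Algebra.TensorProduct.lift (e₁ k A) (pair k A (e₃ k A) (e₂ k A)) fun _ _ => Commute.all _ _

theorem swap₁₂_eq : (swap₁₂ k A).toLinearMap = (TensorProduct.leftComm k A A A).toLinearMap := by
  ext a b c
  simp [swap₁₂, pair, e₁, e₂, e₃, Algebra.TensorProduct.one_def]

theorem swap₂₃_eq : (swap₂₃ k A).toLinearMap =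
    LinearMap.lTensor A (TensorProduct.comm k A A).toLinearMap := by
  ext a b c
  simp [swap₂₃, pair, e₁, e₂, e₃, Algebra.TensorProduct.one_def]

theorem comp_pair (s : T →ₐ[k] T) (f g f' g' : A →ₐ[k] T) (hf : ∀ a, s (f a) = f' a)
    (hg : ∀ a, s (g a) = g' a) (m : A ⊗[k] A) : s (pair k A f g m) = pair k A f' g' m := by
  have : s.comp (pair k A f g) = pair k A f' g' := by
    ext a <;> simp [pair, hf, hg]
  exact DFunLike.congr_fun this m

/-- `(u, v, w) ↦ (x, x, y)`. -/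
noncomputable def res₁₂ : T →ₐ[k] A ⊗[k] A :=
  Algebra.TensorProduct.lift Algebra.TensorProduct.includeLeft (AlgHom.id k _) fun _ _ => Commute.all _ _

/-- `(u, v, w) ↦ (y, x, x)`. -/
noncomputable def res₂₃ : T →ₐ[k] A ⊗[k] A :=
  Algebra.TensorProduct.lift Algebra.TensorProduct.includeRight
    (Algebra.TensorProduct.includeLeft.comp (Algebra.TensorProduct.lmul' k (S := A))) fun _ _ => Commute.all _ _

theorem res₁₂_tmul (a b c : A) : res₁₂ k A (a ⊗ₜ[k] (b ⊗ₜ[k] c)) = (a * b) ⊗ₜ[k] c := by simp [res₁₂]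

theorem res₂₃_tmul (a b c : A) : res₂₃ k A (a ⊗ₜ[k] (b ⊗ₜ[k] c)) = (b * c) ⊗ₜ[k] a := by simp [res₂₃]

theorem res_pair (ρ : T →ₐ[k] A ⊗[k] A) (f g : A →ₐ[k] T) (θ : A ⊗[k] A →ₐ[k] A ⊗[k] A)
    (h : ∀ a b, ρ (f a) * ρ (g b) = θ (a ⊗ₜ[k] b)) (m : A ⊗[k] A) :
    ρ (pair k A f g m) = θ m := by
  induction m using TensorProduct.induction_on with
  | zero => simp
  | tmul a b => rw [pair_tmul, map_mul, h]
  | add x y hx hy => rw [map_add, map_add, map_add, hx, hy]

/-- `m ↦ μ(m) ⊗ 1`. -/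
noncomputable def diag : A ⊗[k] A →ₐ[k] A ⊗[k] A :=
  Algebra.TensorProduct.includeLeft.comp (Algebra.TensorProduct.lmul' k (S := A))

theorem diag_eq_zero {m : A ⊗[k] A} (hm : m ∈ KaehlerDifferential.ideal k A) : diag k A m = 0 := by
  have : Algebra.TensorProduct.lmul' k (S := A) m = 0 := hm
  show (Algebra.TensorProduct.includeLeft : A →ₐ[k] A ⊗[k] A) (Algebra.TensorProduct.lmul' k (S := A) m) = 0
  rw [this, map_zero]

/-- `a ⊗ b ↦ a • d b`. -/
noncomputable def delta : A ⊗[k] A →ₗ[k] Ω[A⁄k] :=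
  TensorProduct.lift (LinearMap.mk₂ k (fun a b => a • dd b)
    (fun a a' b => add_smul _ _ _) (fun c a b => smul_assoc _ _ _)
    (fun a b b' => by rw [map_add, smul_add]) (fun c a b => by rw [Derivation.map_smul, smul_comm]))

theorem delta_tmul (a b : A) : delta k A (a ⊗ₜ[k] b) = a • dd b := rfl

theorem delta_comm (m : A ⊗[k] A) :
    delta k A (TensorProduct.comm k A A m) = dd (Algebra.TensorProduct.lmul' k (S := A) m) - delta k A m := by
  induction m using TensorProduct.induction_on with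
  | zero => simp
  | tmul a b => simp [delta_tmul, Derivation.leibniz]
  | add x y hx hy => rw [map_add, map_add, map_add, map_add, map_add, hx, hy]; abel

theorem sub_diag_mem (m : A ⊗[k] A) : m - diag k A m ∈ KaehlerDifferential.ideal k A := by
  show Algebra.TensorProduct.lmul' k (S := A) (m - diag k A m) = 0
  rw [map_sub, sub_eq_zero]
  show _ = Algebra.TensorProduct.lmul' k (S := A) ((Algebra.TensorProduct.includeLeft : A →ₐ[k] A ⊗[k] A) (Algebra.TensorProduct.lmul' k (S := A) m))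
  simp

theorem toCotangent_eq_delta (m : A ⊗[k] A) :
    (KaehlerDifferential.ideal k A).toCotangent ⟨m - diag k A m, sub_diag_mem k A m⟩ =
      delta k A m := by
  induction m using TensorProduct.induction_on with
  | zero =>
    rw [show (⟨(0 : A ⊗[k] A) - diag k A 0, sub_diag_mem k A 0⟩ : KaehlerDifferential.ideal k A) = 0
      from Subtype.ext (by simp), map_zero, map_zero]
    rfl
  | tmul a b =>
    rw [delta_tmul, show (⟨a ⊗ₜ[k] b - diag k A (a ⊗ₜ[k] b), sub_diag_mem k A _⟩ : KaehlerDifferential.ideal k A) =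
      (a ⊗ₜ[k] (1 : A)) • (⟨1 ⊗ₜ[k] b - b ⊗ₜ[k] 1, KaehlerDifferential.one_smul_sub_smul_one_mem_ideal k b⟩ :
        KaehlerDifferential.ideal k A) from Subtype.ext (by simp [diag, mul_sub])]
    rw [map_smul]
    exact IsScalarTower.algebraMap_smul (A ⊗[k] A) a (dd b)
  | add x y hx hy =>
    rw [show (⟨x + y - diag k A (x + y), sub_diag_mem k A _⟩ : KaehlerDifferential.ideal k A) =
      ⟨x - diag k A x, sub_diag_mem k A x⟩ + ⟨y - diag k A y, sub_diag_mem k A y⟩ from
        Subtype.ext (by simp; abel), map_add, map_add, hx, hy]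
    rfl

theorem mem_sq_of_delta_eq_zero {m : A ⊗[k] A} (hm : m ∈ KaehlerDifferential.ideal k A)
    (h : delta k A m = 0) : m ∈ KaehlerDifferential.ideal k A ^ 2 := by
  have h1 := toCotangent_eq_delta k A m
  rw [h] at h1
  have h2 := (Ideal.toCotangent_eq_zero _ _).1 h1
  simpa [diag_eq_zero k A hm] using h2

theorem delta_surjective : Function.Surjective (delta k A) := by
  intro ω
  obtain ⟨z, hz⟩ := (KaehlerDifferential.ideal k A).toCotangent_surjective ω
  refine ⟨z.1, ?_⟩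
  rw [← toCotangent_eq_delta, ← hz]
  congr 1
  exact Subtype.ext (by simp [diag_eq_zero k A z.2])

theorem delta_diag (m : A ⊗[k] A) : delta k A (diag k A m) = 0 := by
  simp [diag, delta_tmul]

/-- Symmetrisation with respect to the last two factors lifting `(0, I²)`. -/
theorem exists_lift_sq {q : A ⊗[k] A} (hq : q ∈ KaehlerDifferential.ideal k A ^ 2) :
    ∃ x : T, swap₂₃ k A x = x ∧ res₁₂ k A x = 0 ∧ res₂₃ k A x = 2 * q := by
  rw [pow_two] at hq
  refine Submodule.mul_induction_on hq (fun m hm n hn => ?_) fun x y hx hy => ?_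
  · refine ⟨pair k A (e₂ k A) (e₁ k A) m * pair k A (e₃ k A) (e₁ k A) n +
      pair k A (e₃ k A) (e₁ k A) m * pair k A (e₂ k A) (e₁ k A) n, ?_, ?_, ?_⟩
    · have h1 : ∀ z, swap₂₃ k A (pair k A (e₂ k A) (e₁ k A) z) = pair k A (e₃ k A) (e₁ k A) z :=
        comp_pair k A _ _ _ _ _ (fun a => by simp [swap₂₃, pair, e₁, e₂, e₃, Algebra.TensorProduct.one_def])
          (fun a => by simp [swap₂₃, pair, e₁, e₂, e₃, Algebra.TensorProduct.one_def])
      have h2 : ∀ z, swap₂₃ k A (pair k A (e₃ k A) (e₁ k A) z) = pair k A (e₂ k A) (e₁ k A) z :=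
        comp_pair k A _ _ _ _ _ (fun a => by simp [swap₂₃, pair, e₁, e₂, e₃, Algebra.TensorProduct.one_def])
          (fun a => by simp [swap₂₃, pair, e₁, e₂, e₃, Algebra.TensorProduct.one_def])
      simp only [map_add, map_mul, h1, h2]
      ring
    · have h1 : ∀ z, res₁₂ k A (pair k A (e₂ k A) (e₁ k A) z) = diag k A z :=
        res_pair k A _ _ _ _ fun a b => by simp [res₁₂, diag, e₁, e₂]
      simp [h1, diag_eq_zero k A hm, diag_eq_zero k A hn]
    · have h1 : ∀ z, res₂₃ k A (pair k A (e₂ k A) (e₁ k A) z) = z :=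
        res_pair k A _ _ _ (AlgHom.id k _) fun a b => by simp [res₂₃, e₁, e₂]
      have h2 : ∀ z, res₂₃ k A (pair k A (e₃ k A) (e₁ k A) z) = z :=
        res_pair k A _ _ _ (AlgHom.id k _) fun a b => by simp [res₂₃, e₁, e₃]
      simp only [map_add, map_mul, h1, h2]
      ring
  · obtain ⟨a, ha1, ha2, ha3⟩ := hx
    obtain ⟨b, hb1, hb2, hb3⟩ := hy
    exact ⟨a + b, by simp [ha1, hb1], by simp [ha2, hb2], by simp [ha3, hb3, mul_add]⟩

/-- Full symmetrisation lifting `I²`. -/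
theorem exists_sym_lift_sq {q : A ⊗[k] A} (hq : q ∈ KaehlerDifferential.ideal k A ^ 2) :
    ∃ x : T, swap₁₂ k A x = x ∧ swap₂₃ k A x = x ∧ res₁₂ k A x = 2 * q := by
  rw [pow_two] at hq
  refine Submodule.mul_induction_on hq (fun m hm n hn => ?_) fun x y hx hy => ?_
  · let P := fun f g => pair k A f g
    let t : (A →ₐ[k] T) → (A →ₐ[k] T) → (A →ₐ[k] T) → T := fun i j l => P i l m * P j l n
    let u₁ := e₁ k A
    let u₂ := e₂ k A
    let u₃ := e₃ k A
    refine ⟨t u₁ u₂ u₃ + t u₂ u₁ u₃ + t u₁ u₃ u₂ + t u₃ u₁ u₂ + t u₂ u₃ u₁ + t u₃ u₂ u₁, ?_, ?_, ?_⟩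
    · have h : ∀ f g f' g' z, (∀ a, swap₁₂ k A (f a) = f' a) → (∀ a, swap₁₂ k A (g a) = g' a) →
          swap₁₂ k A (pair k A f g z) = pair k A f' g' z :=
        fun f g f' g' z hf hg => comp_pair k A _ f g f' g' hf hg z
      have a1 : ∀ a, swap₁₂ k A (e₁ k A a) = e₂ k A a := fun a => by simp [swap₁₂, pair, e₁, e₂, e₃, Algebra.TensorProduct.one_def]
      have a2 : ∀ a, swap₁₂ k A (e₂ k A a) = e₁ k A a := fun a => by simp [swap₁₂, pair, e₁, e₂, e₃, Algebra.TensorProduct.one_def]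
      have a3 : ∀ a, swap₁₂ k A (e₃ k A a) = e₃ k A a := fun a => by simp [swap₁₂, pair, e₁, e₂, e₃, Algebra.TensorProduct.one_def]
      simp only [t, P, u₁, u₂, u₃, map_add, map_mul, h _ _ _ _ _ a1 a2, h _ _ _ _ _ a1 a3,
        h _ _ _ _ _ a2 a1, h _ _ _ _ _ a2 a3, h _ _ _ _ _ a3 a1, h _ _ _ _ _ a3 a2]
      ring
    · have h : ∀ f g f' g' z, (∀ a, swap₂₃ k A (f a) = f' a) → (∀ a, swap₂₃ k A (g a) = g' a) →
          swap₂₃ k A (pair k A f g z) = pair k A f' g' z :=
        fun f g f' g' z hf hg => comp_pair k A _ f g f' g' hf hg z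
      have a1 : ∀ a, swap₂₃ k A (e₁ k A a) = e₁ k A a := fun a => by simp [swap₂₃, pair, e₁, e₂, e₃, Algebra.TensorProduct.one_def]
      have a2 : ∀ a, swap₂₃ k A (e₂ k A a) = e₃ k A a := fun a => by simp [swap₂₃, pair, e₁, e₂, e₃, Algebra.TensorProduct.one_def]
      have a3 : ∀ a, swap₂₃ k A (e₃ k A a) = e₂ k A a := fun a => by simp [swap₂₃, pair, e₁, e₂, e₃, Algebra.TensorProduct.one_def]
      simp only [t, P, u₁, u₂, u₃, map_add, map_mul, h _ _ _ _ _ a1 a2, h _ _ _ _ _ a1 a3,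
        h _ _ _ _ _ a2 a1, h _ _ _ _ _ a2 a3, h _ _ _ _ _ a3 a1, h _ _ _ _ _ a3 a2]
      ring
    · have h12 : ∀ z, res₁₂ k A (pair k A (e₁ k A) (e₂ k A) z) = diag k A z :=
        res_pair k A _ _ _ _ fun a b => by simp [res₁₂, diag, e₁, e₂]
      have h21 : ∀ z, res₁₂ k A (pair k A (e₂ k A) (e₁ k A) z) = diag k A z :=
        res_pair k A _ _ _ _ fun a b => by simp [res₁₂, diag, e₁, e₂]
      have h13 : ∀ z, res₁₂ k A (pair k A (e₁ k A) (e₃ k A) z) = z :=
        res_pair k A _ _ _ (AlgHom.id k _) fun a b => by simp [res₁₂, e₁, e₃]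
      have h23 : ∀ z, res₁₂ k A (pair k A (e₂ k A) (e₃ k A) z) = z :=
        res_pair k A _ _ _ (AlgHom.id k _) fun a b => by simp [res₁₂, e₂, e₃]
      simp only [t, P, u₁, u₂, u₃, map_add, map_mul, h12, h21, h13, h23, diag_eq_zero k A hm,
        diag_eq_zero k A hn, zero_mul, mul_zero, add_zero]
      ring
  · obtain ⟨a, ha1, ha2, ha3⟩ := hx
    obtain ⟨b, hb1, hb2, hb3⟩ := hy
    exact ⟨a + b, by simp [ha1, hb1], by simp [ha2, hb2], by simp [ha3, hb3, mul_add]⟩

end Groth.Agent.DiagIdealLib
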